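import Cfsg.Agent.Lib.OrderTypeFrob.Kernel

/-!
A group with the order type of a Frobenius group is a Frobenius group of the same solvability.
-/

set_option autoImplicit false

namespace Cfsg.Agent.Lib.OrderTypeFrob

open scoped Pointwise

/-- Splitting off the identity from a count of `x ^ a = 1`. -/
theorem card_pow_succ (G : Type*) [Group G] [Finite G] (a : ℕ) :
    Nat.card {x : G // x ^ a = 1} = Nat.card {x : G // x ≠ 1 ∧ x ^ a = 1} + 1 := by
  have h : ({x : G | x ^ a = 1} \ {1}) = {x : G | x ≠ 1 ∧ x ^ a = 1} := by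
    ext x; simp [and_comm]
  have h1 : ({x : G | x ^ a = 1} \ {1}).ncard + 1 = {x : G | x ^ a = 1}.ncard :=
    Set.ncard_sdiff_singleton_add_one (one_pow a) (Set.toFinite _)
  rw [h] at h1
  exact h1.symm

/-- Nonidentity solutions of `x ^ a = 1`, `a ∣ |H|`, in a Frobenius group. -/
theorem card_pow_conj {G : Type*} [Group G] [Finite G] {N H : Subgroup G} [N.Normal]
    (hc : Subgroup.IsComplement' N H) (hH : Cfsg.IsFrobeniusComplement H) {a : ℕ}
    (ha : a ∣ Nat.card H) :
    Nat.card {x : G // x ≠ 1 ∧ x ^ a = 1} =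
      Nat.card N * Nat.card {h : H // h ≠ 1 ∧ h ^ a = 1} := by
  rw [← hc.index_eq_card, Subgroup.index, ← Nat.card_prod]
  refine (Nat.card_congr (Equiv.ofBijective (fun p : (G ⧸ H) × {h : H // h ≠ 1 ∧ h ^ a = 1} =>
    (⟨p.1.out * ((p.2.1 : H) : G) * p.1.out⁻¹, fun e => p.2.2.1 (Subtype.ext (conj_eq_one_iff.mp e)),
      by rw [conj_pow, show ((p.2.1 : H) : G) ^ a = 1 from congrArg Subtype.val p.2.2.2]; simp⟩ :
        {x : G // x ≠ 1 ∧ x ^ a = 1})) ⟨?_, ?_⟩)).symm
  · rintro ⟨q, h⟩ ⟨q', h'⟩ e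
    have e' : q.out * (h.1 : G) * q.out⁻¹ = q'.out * (h'.1 : G) * q'.out⁻¹ := congrArg Subtype.val e
    have hq : q = q' := by
      rw [← QuotientGroup.out_eq' q, ← QuotientGroup.out_eq' q']
      refine Frobenius.mk_eq_mk_of_mem hH (x := q.out * (h.1 : G) * q.out⁻¹)
        (fun e1 => h.2.1 (Subtype.ext (conj_eq_one_iff.mp e1))) (by simp [mul_assoc]) ?_
      rw [e']; simp [mul_assoc]
    subst hq
    exact Prod.ext rfl (Subtype.ext (Subtype.ext (by simpa using e')))
  · rintro ⟨x, hx1, hxa⟩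
    have hx : x ∉ Cfsg.frobeniusKernel H := by
      rw [Frobenius.frobeniusKernel_eq_of_isComplement' hc hH]
      intro hxN
      refine hx1 (orderOf_eq_one_iff.mp (Nat.eq_one_of_dvd_coprimes
        (Frobenius.coprime_card_of_isComplement' hc hH) ((orderOf_dvd_of_pow_eq_one hxa).trans ha) ?_))
      rw [← Subgroup.orderOf_mk x hxN]
      exact orderOf_dvd_natCard _
    rw [Frobenius.mem_frobeniusKernel_iff] at hx
    push Not at hx
    obtain ⟨g, hg⟩ := hx.2
    obtain ⟨k, hk⟩ := QuotientGroup.mk_out_eq_mul H g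
    set t := (g : G ⧸ H).out with ht
    have ht' : t⁻¹ * x * t ∈ H := by
      have : t⁻¹ * x * t = (k : G)⁻¹ * (g⁻¹ * x * g) * k := by rw [hk]; group
      rw [this]; exact mul_mem (mul_mem (inv_mem k.2) hg) k.2
    refine ⟨⟨(g : G ⧸ H), ⟨⟨_, ht'⟩, ⟨?_, ?_⟩⟩⟩, Subtype.ext ?_⟩
    · intro e
      apply hx1
      have e1 : t⁻¹ * x * t = 1 := congrArg Subtype.val e
      have : x = t * (t⁻¹ * x * t) * t⁻¹ := by group
      rw [this, e1]; group
    · refine Subtype.ext ?_
      show (t⁻¹ * x * t) ^ a = 1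
      rw [show t⁻¹ * x * t = t⁻¹ * x * (t⁻¹)⁻¹ by rw [inv_inv], conj_pow, hxa, mul_one, mul_inv_cancel]
    · show t * (t⁻¹ * x * t) * t⁻¹ = x
      group

/-- A Frobenius complement has small Sylow subgroups. -/
theorem smallSylows_complement {G : Type*} [Group G] [Finite G] {N H : Subgroup G} [N.Normal]
    (hc : Subgroup.IsComplement' N H) (hN : N ≠ ⊥)
    (hfpf : ∀ h ∈ H, h ≠ 1 → N ⊓ Subgroup.centralizer {h} = ⊥) : SmallSylows H := by
  refine ⟨fun r hr hr2 R => ?_, ?_⟩
  · haveI := Fact.mk hr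
    exact (Frobenius.sylow_cyclic_or_quaternion hc hN hfpf r R).resolve_right fun h => hr2 h.1
  · obtain ⟨P⟩ : Nonempty (Sylow 2 H) := inferInstance
    rcases Frobenius.sylow_cyclic_or_quaternion hc hN hfpf 2 P with h | ⟨-, n, ⟨e⟩⟩
    · haveI := h
      exact ⟨P, ⊤, isCyclic_of_surjective Subgroup.topEquiv.symm Subgroup.topEquiv.symm.surjective,
        by simp⟩
    · haveI : NeZero (2 ^ n) := ⟨by positivity⟩
      set y := e.symm (QuaternionGroup.a 1)
      refine ⟨P, Subgroup.zpowers y, inferInstance, ?_⟩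
      have h1 := (Subgroup.zpowers y).card_mul_index
      rw [Nat.card_zpowers, MulEquiv.orderOf_eq, QuaternionGroup.orderOf_a_one, Nat.card_congr e.toEquiv,
        Nat.card_eq_fintype_card, QuaternionGroup.card,
        show 4 * 2 ^ n = 2 * 2 ^ n * 2 by ring] at h1
      exact le_of_eq (Nat.eq_of_mul_eq_mul_left (by positivity) h1)

/-- The main statement. -/
theorem frobenius_orderType {F G : Type*} [Group F] [Finite F] [Group G] [Finite G]
    (hF : ∃ C : Subgroup F, Cfsg.IsFrobeniusComplement C)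
    (hT : ∀ m : ℕ, Nat.card {g : F // orderOf g = m} = Nat.card {h : G // orderOf h = m}) :
    (∃ C : Subgroup G, Cfsg.IsFrobeniusComplement C) ∧ (Group.IsSolvable G ↔ Group.IsSolvable F) := by
  obtain ⟨C, hC⟩ := hF
  obtain ⟨K, hKn, hKnil, hcF, hcopF, hKne, hfpfF, hdich⟩ := kernel_facts hC
  haveI := hKn
  obtain ⟨e, he⟩ := exists_orderOf_equiv hT
  have hcard : Nat.card G = Nat.card F := (Nat.card_congr e).symm
  have hFc : Nat.card K * Nat.card C = Nat.card F := by
    rw [← hcF.symm.index_eq_card, K.card_mul_index]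
  have hkd : Nat.card K ∣ Nat.card G := hcard ▸ K.card_subgroup_dvd_card
  have hdiv : Nat.card G / Nat.card K = Nat.card C := by
    rw [hcard, ← hFc, Nat.mul_div_cancel_left _ Nat.card_pos]
  obtain ⟨N, hNn, hNs, hNc⟩ := exists_normal_hall (G := G) (Nat.card K) hkd (hdiv ▸ hcopF.symm)
    fun r hr hrk => (card_pow_eq e he _).symm.trans (card_pow_kernel hKnil hcF hcopF hr hrk)
  haveI := hNn
  have hNi : N.index = Nat.card C := by
    rw [← hdiv, ← hNc]
    exact (Nat.eq_div_of_mul_eq_left Nat.card_pos.ne' (by rw [mul_comm, N.card_mul_index]))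
  obtain ⟨H, hcG⟩ := Subgroup.exists_right_complement'_of_coprime (N := N)
    (hNc.symm ▸ hNi.symm ▸ hcopF.symm)
  have hHc : Nat.card H = Nat.card C := hcG.symm.index_eq_card.symm.trans hNi
  have hfpfG : ∀ h ∈ H, h ≠ 1 → N ⊓ Subgroup.centralizer {h} = ⊥ := by
    intro h hh h1
    rw [eq_bot_iff]
    rintro v ⟨hv, hvc⟩
    rw [Subgroup.mem_bot]
    by_contra hv1
    have hdh : orderOf h ∣ Nat.card C := by
      rw [← hHc, ← Subgroup.orderOf_mk h hh]; exact orderOf_dvd_natCard _
    have hdv : orderOf v ∣ Nat.card K := by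
      rw [← hNc, ← Subgroup.orderOf_mk v hv]; exact orderOf_dvd_natCard _
    have hco : Nat.Coprime (orderOf v) (orderOf h) :=
      (hcopF.coprime_dvd_left hdh).coprime_dvd_right hdv |>.symm
    have ho := (show Commute v h from Subgroup.mem_centralizer_singleton_iff.mp hvc).orderOf_mul_eq_mul_orderOf_of_coprime hco
    rcases hdich (e.symm (v * h)) with hd | hd <;>
      rw [← he (e.symm (v * h)), e.apply_symm_apply, ho] at hd
    · exact h1 (orderOf_eq_one_iff.mp (Nat.eq_one_of_dvd_coprimes hcopF hdh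
        ((dvd_mul_left _ _).trans hd)))
    · exact hv1 (orderOf_eq_one_iff.mp (Nat.eq_one_of_dvd_coprimes hcopF
        ((dvd_mul_right _ _).trans hd) hdv))
  have hNne : N ≠ ⊥ := fun h => by
    rw [h, Subgroup.card_bot] at hNc
    exact hKne (Subgroup.card_eq_one.mp hNc.symm)
  have hHne : H ≠ ⊥ := fun h => by
    rw [h, Subgroup.card_bot] at hHc
    exact hC.1 (Subgroup.card_eq_one.mp hHc.symm)
  have hH := Frobenius.isFrobeniusComplement_of_fpf hcG hNne hHne hfpfG
  refine ⟨⟨H, hH⟩, ?_⟩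
  have hcnt : ∀ a : ℕ, a ∣ Nat.card C →
      Nat.card {x : C // x ^ a = 1} = Nat.card {x : H // x ^ a = 1} := by
    intro a ha
    have h1 := card_pow_conj hcF hC ha
    have h2 := card_pow_conj hcG hH (hHc.symm ▸ ha)
    have h3 := card_pow_eq e he a
    rw [card_pow_succ, card_pow_succ, h1, h2, hNc] at h3
    rw [card_pow_succ, card_pow_succ,
      Nat.eq_of_mul_eq_mul_left Nat.card_pos (Nat.add_right_cancel h3)]
  have hsolK : Group.IsSolvable K := by
    haveI := hKnil
    infer_instance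
  have hsup : ∀ {X : Type _} [Group X] (A B : Subgroup X), A.Normal → Subgroup.IsComplement' A B →
      Group.IsSolvable A → Group.IsSolvable B → Group.IsSolvable X := by
    intro X _ A B hA hAB hAs hBs
    have h := Components.isSolvable_sup (H := A) (K := B)
      (by rw [Subgroup.normalizer_eq_top_iff.mpr hA]; exact le_top) hAs hBs
    rw [hAB.sup_eq_top] at h
    exact Group.isSolvable_of_surjective (f := (⊤ : Subgroup X).subtype)
      fun x => ⟨⟨x, trivial⟩, rfl⟩
  constructor
  · intro hG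
    have hHs : Group.IsSolvable H := inferInstance
    exact hsup K C hKn hcF hsolK (isSolvable_of_counts hHs (smallSylows_complement hcG hNne hfpfG)
      hHc fun a ha => (hcnt a (hHc ▸ ha)).symm)
  · intro hF
    have hCs : Group.IsSolvable C := inferInstance
    have h := Components.isSolvable_sup (H := N) (K := H)
      (by rw [Subgroup.normalizer_eq_top_iff.mpr hNn]; exact le_top) hNs
      (isSolvable_of_counts hCs (smallSylows_complement hcF hKne hfpfF) hHc.symm hcnt)
    rw [hcG.sup_eq_top] at h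
    exact Group.isSolvable_of_surjective (f := (⊤ : Subgroup G).subtype)
      fun x => ⟨⟨x, trivial⟩, rfl⟩

end Cfsg.Agent.Lib.OrderTypeFrob
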