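import Cfsg.Agent.Lib.OrderTypeFrob.Tower
import Cfsg.Agent.Lib.Frobenius.Complement
import Cfsg.Agent.Lib.Frobenius.Disconnected
import Cfsg.Agent.Lib.Frobenius.KernelNilpotent

/-!
Groups with the order type of a Frobenius group.
-/

set_option autoImplicit false

namespace Cfsg.Agent.Lib.OrderTypeFrob

open scoped Pointwise

/-- Equal order types give an order preserving bijection. -/
theorem exists_orderOf_equiv {F G : Type*} [Group F] [Finite F] [Group G] [Finite G]
    (hT : ∀ m : ℕ, Nat.card {g : F // orderOf g = m} = Nat.card {h : G // orderOf h = m}) :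
    ∃ e : F ≃ G, ∀ x, orderOf (e x) = orderOf x := by
  refine ⟨Equiv.ofFiberEquiv (f := (orderOf : F → ℕ)) (g := (orderOf : G → ℕ))
    fun m => Classical.choice ?_, fun x => Equiv.ofFiberEquiv_map _ x⟩
  obtain ⟨n, ⟨a⟩⟩ := Finite.exists_equiv_fin {g : F // orderOf g = m}
  obtain ⟨n', ⟨b⟩⟩ := Finite.exists_equiv_fin {h : G // orderOf h = m}
  have hn : n = n' := by
    have h := hT m
    rw [Nat.card_congr a, Nat.card_congr b, Nat.card_fin, Nat.card_fin] at h
    exact h
  subst hn
  exact ⟨a.trans b.symm⟩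

/-- An order preserving bijection preserves the counts of `x ^ n = 1`. -/
theorem card_pow_eq {F G : Type*} [Group F] [Group G] (e : F ≃ G)
    (he : ∀ x, orderOf (e x) = orderOf x) (n : ℕ) :
    Nat.card {g : F // g ^ n = 1} = Nat.card {g : G // g ^ n = 1} := by
  refine Nat.card_congr (e.subtypeEquiv fun x => ?_)
  rw [← orderOf_dvd_iff_pow_eq_one, ← orderOf_dvd_iff_pow_eq_one, he]

/-- Structure of the original Frobenius group. -/
theorem kernel_facts {F : Type*} [Group F] [Finite F] {C : Subgroup F}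
    (hC : Cfsg.IsFrobeniusComplement C) :
    ∃ N : Subgroup F, N.Normal ∧ Group.IsNilpotent N ∧ Subgroup.IsComplement' N C ∧
      (Nat.card C).Coprime (Nat.card N) ∧ N ≠ ⊥ ∧
      (∀ c ∈ C, c ≠ 1 → N ⊓ Subgroup.centralizer {c} = ⊥) ∧
      ∀ x : F, orderOf x ∣ Nat.card N ∨ orderOf x ∣ Nat.card C := by
  obtain ⟨N, hN, hn, hnil⟩ := Frobenius.kernel_isNilpotent hC
  obtain ⟨N', hN', -, hc⟩ := Frobenius.exists_kernel hC
  obtain rfl : N' = N := SetLike.coe_injective (hN'.trans hN.symm)
  refine ⟨N', hn, hnil, hc, Frobenius.coprime_card_of_isComplement' hc hC, fun h => hC.2.1 ?_,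
    Frobenius.fpf_of_isFrobeniusComplement (disjoint_iff.mp hc.disjoint) hC, fun x => ?_⟩
  · exact Subgroup.isComplement'_bot_left.mp (h ▸ hc)
  · by_cases hx : x ∈ N'
    · exact Or.inl (by rw [← Subgroup.orderOf_mk x hx]; exact orderOf_dvd_natCard _)
    · right
      have hx' : x ∉ Cfsg.frobeniusKernel C := by rw [← hN]; exact hx
      rw [Frobenius.mem_frobeniusKernel_iff] at hx'
      push Not at hx'
      obtain ⟨g, hg⟩ := hx'.2
      rw [← orderOf_injective (MulAut.conj g⁻¹).toMonoidHom (MulAut.conj g⁻¹).injective x]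
      have e : (MulAut.conj g⁻¹).toMonoidHom x = g⁻¹ * x * g := by simp [MulAut.conj_apply]
      rw [e, ← Subgroup.orderOf_mk _ hg]
      exact orderOf_dvd_natCard _

/-- In a Frobenius group the `r`-elements for `r ∣ |kernel|` form a group. -/
theorem card_pow_kernel {F : Type*} [Group F] [Finite F] {N C : Subgroup F} [N.Normal]
    (hnil : Group.IsNilpotent N) (hc : Subgroup.IsComplement' N C)
    (hcop : (Nat.card C).Coprime (Nat.card N)) {r : ℕ} (hr : r.Prime) (hrN : r ∣ Nat.card N) :
    Nat.card {x : F // x ^ (r ^ (Nat.card N).factorization r) = 1} =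
      r ^ (Nat.card N).factorization r := by
  haveI := Fact.mk hr
  haveI := hnil
  obtain ⟨R⟩ : Nonempty (Sylow r N) := inferInstance
  have hRn : (R : Subgroup N).Normal :=
    R.normal_of_normalizerCondition Group.normalizerCondition_of_isNilpotent
  have hRu : ∀ x ∈ N, x ^ (r ^ (Nat.card N).factorization r) = 1 →
      ∀ hx : x ∈ N, (⟨x, hx⟩ : N) ∈ (R : Subgroup N) := by
    intro x _ hxe hx
    have hxp : IsPGroup r (Subgroup.zpowers (⟨x, hx⟩ : N)) := by
      obtain ⟨j, -, hj⟩ := (Nat.dvd_prime_pow hr).mp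
        (orderOf_dvd_of_pow_eq_one (Subtype.ext hxe : (⟨x, hx⟩ : N) ^ _ = 1))
      exact IsPGroup.of_card (by rw [Nat.card_zpowers, hj])
    obtain ⟨S, hS⟩ := hxp.exists_le_sylow
    haveI := Sylow.unique_of_normal R hRn
    rw [Subsingleton.elim S R] at hS
    exact hS (Subgroup.mem_zpowers _)
  have hmem : ∀ x : F, x ^ (r ^ (Nat.card N).factorization r) = 1 → x ∈ N := fun x hx => by
    rw [← QuotientGroup.eq_one_iff, ← QuotientGroup.mk'_apply, ← orderOf_eq_one_iff]
    refine Nat.eq_one_of_dvd_coprimes hcop ?_ (((orderOf_map_dvd _ _).trans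
      (orderOf_dvd_of_pow_eq_one hx)).trans ((Nat.card N).ordProj_dvd r))
    rw [← hc.symm.index_eq_card, Subgroup.index_eq_card]
    exact orderOf_dvd_natCard _
  have hinv : ∀ y : (R : Subgroup N), ((y : N) : F) ^ (r ^ (Nat.card N).factorization r) = 1 :=
    fun y => by
    rw [← R.card_eq_multiplicity]
    exact congrArg (fun z : (R : Subgroup N) => ((z : N) : F)) (pow_card_eq_one' (x := y))
  exact (Nat.card_congr
    { toFun := fun x => (⟨⟨x.1, hmem x.1 x.2⟩, hRu x.1 (hmem x.1 x.2) x.2 _⟩ : (R : Subgroup N))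
      invFun := fun y => ⟨((y : N) : F), hinv y⟩
      left_inv := fun x => rfl
      right_inv := fun y => rfl }).trans R.card_eq_multiplicity

/-- Any group with the counts of a Frobenius group has a normal solvable Hall subgroup. -/
theorem exists_normal_hall {G : Type*} [Group G] [Finite G] (k : ℕ) (hk : k ∣ Nat.card G)
    (hcop : Nat.Coprime k (Nat.card G / k))
    (hcnt : ∀ r : ℕ, r.Prime → r ∣ k →
      Nat.card {x : G // x ^ (r ^ k.factorization r) = 1} = r ^ k.factorization r) :
    ∃ N : Subgroup G, N.Normal ∧ Group.IsSolvable N ∧ Nat.card N = k := by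
  have hk0 : k ≠ 0 := fun h => (Nat.card_pos (α := G)).ne' (Nat.eq_zero_of_zero_dvd (h ▸ hk))
  have hR : ∀ r ∈ k.primeFactors, ∃ R : Subgroup G, R.Normal ∧ Group.IsSolvable R ∧
      Nat.card R = r ^ k.factorization r := by
    intro r hr
    obtain ⟨hrp, hrk, -⟩ := Nat.mem_primeFactors.mp hr
    haveI := Fact.mk hrp
    obtain ⟨R⟩ : Nonempty (Sylow r G) := inferInstance
    have hf : (Nat.card G).factorization r = k.factorization r := by
      obtain ⟨d, hd⟩ := hk
      have hd0 : d ≠ 0 := fun h => (Nat.card_pos (α := G)).ne' (by rw [hd, h, mul_zero])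
      rw [hd, Nat.factorization_mul hk0 hd0, Finsupp.add_apply,
        Nat.factorization_eq_zero_of_not_dvd (n := d), add_zero]
      intro hrd
      rw [hd, Nat.mul_div_cancel_left _ (Nat.pos_of_ne_zero hk0)] at hcop
      exact Nat.not_coprime_of_dvd_of_dvd hrp.one_lt hrk hrd hcop
    have hcard : Nat.card R = r ^ k.factorization r := by rw [R.card_eq_multiplicity, hf]
    have hset : {x : G | x ^ (r ^ k.factorization r) = 1} = ((R : Subgroup G) : Set G) := by
      symm
      refine Set.eq_of_subset_of_ncard_le (fun x hx => ?_) ?_ (Set.toFinite _)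
      · show x ^ _ = 1
        rw [← hcard]
        exact congrArg Subtype.val (pow_card_eq_one' (x := (⟨x, hx⟩ : R)))
      · exact le_of_eq ((hcnt r hrp hrk).trans hcard.symm)
    refine ⟨R, ⟨fun x hx g => ?_⟩, ?_, hcard⟩
    · have hx' : x ∈ {x : G | x ^ (r ^ k.factorization r) = 1} := hset ▸ hx
      show g * x * g⁻¹ ∈ ((R : Subgroup G) : Set G)
      rw [← hset]
      show (g * x * g⁻¹) ^ _ = 1
      rw [conj_pow, show x ^ _ = 1 from hx', mul_one, mul_inv_cancel]
    · haveI := R.isPGroup'.isNilpotent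
      infer_instance
  have hacc : ∀ S : Finset ℕ, S ⊆ k.primeFactors → ∃ M : Subgroup G, M.Normal ∧ Group.IsSolvable M ∧
      Nat.card M ∣ ∏ r ∈ S, r ^ k.factorization r ∧ ∀ r ∈ S, r ^ k.factorization r ∣ Nat.card M := by
    intro S
    induction S using Finset.induction_on with
    | empty => exact fun _ => ⟨⊥, inferInstance, inferInstance, by simp, by simp⟩
    | @insert r S hrS ih =>
      intro hsub
      obtain ⟨M, hMn, hMs, hM1, hM2⟩ := ih ((Finset.subset_insert r S).trans hsub)
      obtain ⟨R, hRn, hRs, hRc⟩ := hR r (hsub (Finset.mem_insert_self r S))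
      haveI := hMn
      haveI := hRn
      refine ⟨M ⊔ R, inferInstance,
        Components.isSolvable_sup (by rw [Subgroup.normalizer_eq_top_iff.mpr hMn]; exact le_top) hMs hRs,
        ?_, ?_⟩
      · rw [Finset.prod_insert hrS, mul_comm]
        exact (Frobenius.card_sup_dvd M R).trans (Nat.mul_dvd_mul hM1 (dvd_of_eq hRc))
      · intro q hq
        rcases Finset.mem_insert.mp hq with rfl | hq
        · exact hRc ▸ Subgroup.card_dvd_of_le le_sup_right
        · exact (hM2 q hq).trans (Subgroup.card_dvd_of_le le_sup_left)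
  obtain ⟨M, hMn, hMs, hM1, hM2⟩ := hacc _ le_rfl
  refine ⟨M, hMn, hMs, ?_⟩
  have hprod : ∏ r ∈ k.primeFactors, r ^ k.factorization r = k := Nat.prod_factorization_pow_eq_self hk0
  rw [hprod] at hM1
  refine Nat.dvd_antisymm hM1 ?_
  refine (Nat.dvd_iff_prime_pow_dvd_dvd _ _).mpr fun q j hq hqj => ?_
  rcases Nat.eq_zero_or_pos j with rfl | hj
  · simp
  · exact (pow_dvd_pow q ((hq.pow_dvd_iff_le_factorization hk0).mp hqj)).trans
      (hM2 q (Nat.mem_primeFactors.mpr ⟨hq, (dvd_pow_self q hj.ne').trans hqj, hk0⟩))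

end Cfsg.Agent.Lib.OrderTypeFrob
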