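import Cfsg.Agent.Lib.MinimalNormal
import Cfsg.Agent.Lib.Burnside.Paqb
import Cfsg.Agent.Lib.Components.GenFitting
import Mathlib

/-!
Solvable groups with small Sylow subgroups have normal Hall subgroups for the large primes, and
this is visible in the element counts.
-/

set_option autoImplicit false

namespace Cfsg.Agent.Lib.OrderTypeFrob

universe u

/-- Odd Sylow subgroups cyclic, a Sylow `2`-subgroup with a cyclic subgroup of index at most two. -/
def SmallSylows (G : Type*) [Group G] : Prop :=
  (∀ r : ℕ, r.Prime → r ≠ 2 → ∀ R : Sylow r G, IsCyclic (R : Subgroup G)) ∧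
    ∃ (P : Sylow 2 G) (C : Subgroup (P : Subgroup G)), IsCyclic C ∧ C.index ≤ 2

theorem smallSylows_of_surjective {G G' : Type*} [Group G] [Group G'] [Finite G] (f : G →* G')
    (hf : Function.Surjective f) (h : SmallSylows G) : SmallSylows G' := by
  refine ⟨fun r hr hr2 R => ?_, ?_⟩
  · haveI := Fact.mk hr
    obtain ⟨R0, rfl⟩ := Sylow.mapSurjective_surjective hf r R
    haveI := h.1 r hr hr2 R0
    exact isCyclic_of_surjective (f.subgroupMap (R0 : Subgroup G)) (f.subgroupMap_surjective _)
  · obtain ⟨P, C, hC, hidx⟩ := h.2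
    refine ⟨P.mapSurjective hf, C.map (f.subgroupMap (P : Subgroup G)), ?_, ?_⟩
    · haveI := hC
      exact isCyclic_of_surjective ((f.subgroupMap (P : Subgroup G)).subgroupMap C)
        ((f.subgroupMap _).subgroupMap_surjective _)
    · refine le_trans (Nat.le_of_dvd (Nat.pos_of_ne_zero Subgroup.index_ne_zero_of_finite)
        (Subgroup.index_map_dvd C (f.subgroupMap_surjective _))) hidx

/-- A normal elementary abelian subgroup has order `s`, or `4` when `s = 2`. -/
theorem card_le_of_small {G : Type*} [Group G] [Finite G] (h : SmallSylows G) (N : Subgroup G)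
    [N.Normal] {s : ℕ} (hs : s.Prime) (hne : N ≠ ⊥) (hexp : ∀ x ∈ N, x ^ s = 1) :
    Nat.card N = s ∨ (s = 2 ∧ Nat.card N = 4) := by
  haveI := Fact.mk hs
  have hN : IsPGroup s N := fun x => ⟨1, Subtype.ext (by simpa using hexp _ x.2)⟩
  have hle : ∀ R : Sylow s G, N ≤ (R : Subgroup G) := fun R => hN.le_sylow_of_normal R
  have hcyc : ∀ (C : Subgroup G), IsCyclic C → ∀ M : Subgroup G, M ≤ C → (∀ x ∈ M, x ^ s = 1) →
      Nat.card M ≤ s := by
    intro C hC M hMC hM
    haveI := hC
    obtain ⟨⟨y, hy⟩⟩ := isCyclic_of_injective (Subgroup.inclusion hMC) (Subgroup.inclusion_injective hMC)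
    calc Nat.card M = orderOf y := (orderOf_eq_card_of_forall_mem_zpowers hy).symm
      _ ≤ s := Nat.le_of_dvd hs.pos (orderOf_dvd_of_pow_eq_one (Subtype.ext (by simpa using hM _ y.2)))
  obtain ⟨k, hk⟩ := IsPGroup.iff_card.mp hN
  have hk0 : k ≠ 0 := by
    rintro rfl
    rw [pow_zero, Subgroup.card_eq_one] at hk
    exact hne hk
  by_cases hs2 : s = 2
  · subst hs2
    obtain ⟨P, C, hC, hidx⟩ := h.2
    set C' : Subgroup G := C.map (P : Subgroup G).subtype
    haveI := hC
    have hC' : IsCyclic C' := isCyclic_of_surjective ((P : Subgroup G).subtype.subgroupMap C)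
      (MonoidHom.subgroupMap_surjective _ _)
    have h1 : Nat.card (C' ⊓ N : Subgroup G) ≤ 2 :=
      hcyc C' hC' _ inf_le_left fun x hx => hexp x hx.2
    have h2 : C'.relIndex N ≤ 2 := by
      refine le_trans (Subgroup.relIndex_le_of_le_right (hle P) Subgroup.index_ne_zero_of_finite) ?_
      show (C'.subgroupOf (P : Subgroup G)).index ≤ 2
      rwa [Subgroup.subgroupOf, Subgroup.comap_map_eq_self_of_injective (Subgroup.subtype_injective _)]
    have h3 : Nat.card (C' ⊓ N : Subgroup G) * C'.relIndex N = Nat.card N := by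
      rw [← (C'.subgroupOf N).card_mul_index, ← Subgroup.subgroupOf_map_subtype,
        Subgroup.card_map_of_injective N.subtype_injective]
      rfl
    have h4 : 2 ^ k ≤ 2 ^ 2 := by rw [← hk, ← h3]; exact Nat.mul_le_mul h1 h2
    have h5 : k ≤ 2 := (Nat.pow_le_pow_iff_right Nat.one_lt_two).mp h4
    interval_cases k
    · exact absurd rfl hk0
    · exact Or.inl hk
    · exact Or.inr ⟨rfl, hk⟩
  · obtain ⟨R⟩ : Nonempty (Sylow s G) := inferInstance
    have h1 := hcyc _ (h.1 s hs hs2 R) N (hle R) hexp
    refine Or.inl (le_antisymm h1 ?_)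
    rw [hk]
    exact Nat.le_self_pow hk0 s

/-- A normal subgroup whose order involves only primes `≥ p`, of index involving only primes `< p`. -/
def IsBigHall {G : Type*} [Group G] (p : ℕ) (M : Subgroup G) : Prop :=
  M.Normal ∧ (∀ r : ℕ, r.Prime → r ∣ Nat.card M → p ≤ r) ∧
    ∀ r : ℕ, r.Prime → r ∣ M.index → r < p

/-- A solvable group with small Sylow subgroups has a normal Hall subgroup for the primes `≥ p`. -/
theorem exists_bigHall {p : ℕ} (hp : 5 ≤ p) : ∀ (n : ℕ) (G : Type u) [Group G] [Finite G],
    Nat.card G = n → Group.IsSolvable G → SmallSylows G → ∃ M : Subgroup G, IsBigHall p M := by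
  intro n
  induction n using Nat.strong_induction_on with
  | _ n ih =>
  intro G _ _ hn hsol hsm
  rcases subsingleton_or_nontrivial G with hG | hG
  · refine ⟨⊥, inferInstance, fun r hr hd => ?_, fun r hr hd => ?_⟩
    · rw [Subgroup.card_bot] at hd; exact absurd hd hr.not_dvd_one
    · rw [Subgroup.index_bot, Nat.card_unique] at hd; exact absurd hd hr.not_dvd_one
  obtain ⟨N, hN, hNne, -, hmin⟩ :=
    MinimalNormal.exists_minimal_normal_le (M := (⊤ : Subgroup G)) inferInstance top_ne_bot
  obtain ⟨-, s, hs, hexp⟩ := MinimalNormal.elementaryAbelian N hNne hmin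
  haveI := Fact.mk hs
  have hNcard := card_le_of_small hsm N hs hNne hexp
  have hlt : Nat.card (G ⧸ N) < n := by
    rw [← Subgroup.index_eq_card, ← hn, ← N.card_mul_index]
    exact lt_mul_left (Nat.pos_of_ne_zero Subgroup.index_ne_zero_of_finite)
      ((N.one_lt_card_iff_ne_bot).mpr hNne)
  obtain ⟨M', hM'n, hM'1, hM'2⟩ := ih _ hlt (G ⧸ N) rfl
    (Group.isSolvable_of_surjective (QuotientGroup.mk'_surjective N))
    (smallSylows_of_surjective _ (QuotientGroup.mk'_surjective N) hsm)
  set M := M'.comap (QuotientGroup.mk' N) with hMdef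
  haveI : M.Normal := hM'n.comap _
  have hMi : M.index = M'.index := M'.index_comap_of_surjective (QuotientGroup.mk'_surjective N)
  have hNM : N ≤ M := fun x hx => by
    rw [hMdef, Subgroup.mem_comap,
      show QuotientGroup.mk' N x = 1 from (QuotientGroup.eq_one_iff x).mpr hx]
    exact one_mem M'
  have hMc : Nat.card M = Nat.card N * Nat.card M' := by
    refine Nat.eq_of_mul_eq_mul_right (Nat.pos_of_ne_zero (Subgroup.index_ne_zero_of_finite (H := M'))) ?_
    rw [mul_assoc, M'.card_mul_index, ← hMi, M.card_mul_index, ← Subgroup.index_eq_card,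
      N.card_mul_index]
  have hsd : ∀ r : ℕ, r.Prime → r ∣ Nat.card N → r = s := fun r hr hd => by
    rcases hNcard with h | ⟨h2, h4⟩
    · exact (Nat.prime_dvd_prime_iff_eq hr hs).mp (h ▸ hd)
    · rw [h4, show (4 : ℕ) = 2 ^ 2 from rfl] at hd
      rw [h2]; exact (Nat.prime_dvd_prime_iff_eq hr Nat.prime_two).mp (hr.dvd_of_dvd_pow hd)
  by_cases hsp : p ≤ s
  · refine ⟨M, inferInstance, fun r hr hd => ?_, fun r hr hd => hM'2 r hr (hMi ▸ hd)⟩
    rw [hMc] at hd
    rcases hr.dvd_mul.mp hd with h | h
    · exact hsd r hr h ▸ hsp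
    · exact hM'1 r hr h
  -- `s` is small: split off `N`
  have hidx : (N.subgroupOf M).index = Nat.card M' := by
    refine Nat.eq_of_mul_eq_mul_left (Nat.card_pos (α := N.subgroupOf M)) ?_
    rw [(N.subgroupOf M).card_mul_index, Nat.card_congr (Subgroup.subgroupOfEquivOfLe hNM).toEquiv, hMc]
  have hcop : Nat.Coprime (Nat.card (N.subgroupOf M)) (N.subgroupOf M).index := by
    rw [hidx, Nat.card_congr (Subgroup.subgroupOfEquivOfLe hNM).toEquiv]
    refine Nat.coprime_of_dvd fun r hr h1 h2 => ?_
    exact hsp (hsd r hr h1 ▸ hM'1 r hr h2)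
  obtain ⟨K, hK⟩ := Subgroup.exists_right_complement'_of_coprime hcop
  have hKc : Nat.card K = Nat.card M' := by rw [← hK.symm.index_eq_card, hidx]
  -- `K` centralises `N`
  have hcentral : ∀ k ∈ K, ∀ x ∈ N, Commute (k : G) x := by
    intro k hk x hx
    let f := N.normalizerMonoidHom
    have hnorm : (k : G) ∈ Subgroup.normalizer (N : Set G) := by
      rw [Subgroup.normalizer_eq_top_iff.mpr hN]; trivial
    set j : Subgroup.normalizer (N : Set G) := ⟨k, hnorm⟩
    have hd1 : orderOf (f j) ∣ Nat.card K := by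
      refine (orderOf_map_dvd f j).trans ?_
      have h := orderOf_dvd_natCard (⟨k, hk⟩ : K)
      rw [Subgroup.orderOf_mk] at h
      rwa [Subgroup.orderOf_mk, Subgroup.orderOf_coe]
    have hd2 : orderOf (f j) ∣ Nat.card (MulAut N) := orderOf_dvd_natCard _
    have haut : ∀ r : ℕ, r.Prime → p ≤ r → ¬ r ∣ Nat.card (MulAut N) := by
      intro r hr hrp hd
      rcases hNcard with h | ⟨h2, h4⟩
      · haveI : IsCyclic N := isCyclic_of_prime_card h
        rw [IsCyclic.card_mulAut, h, Nat.totient_prime hs] at hd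
        rcases Nat.eq_zero_or_pos (s - 1) with h0 | h0
        · exact absurd h0 (by have := hs.two_le; omega)
        · have := Nat.le_of_dvd h0 hd; omega
      · -- automorphisms permute the three involutions
        classical
        haveI := Fintype.ofFinite N
        let φ : MulAut N →* Equiv.Perm {x : N // x ≠ 1} :=
          MonoidHom.mk' (fun α => α.toEquiv.subtypeEquiv fun x =>
            not_congr (MulEquiv.map_eq_one_iff α).symm) fun α β => by ext x; rfl
        have hinj : Function.Injective φ := fun α β hab => MulEquiv.ext fun x => by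
          by_cases hx : x = 1
          · rw [hx, map_one, map_one]
          · exact congrArg Subtype.val (DFunLike.congr_fun hab ⟨x, hx⟩)
        have h6 : Nat.card (Equiv.Perm {x : N // x ≠ 1}) = 6 := by
          rw [Nat.card_perm, Nat.card_eq_fintype_card, Fintype.card_subtype_compl,
            Fintype.card_subtype_eq, ← Nat.card_eq_fintype_card, h4]
          rfl
        have h7 : r ∣ 6 := h6 ▸ hd.trans (Subgroup.card_dvd_of_injective φ hinj)
        have := Nat.le_of_dvd (by norm_num) h7
        rcases (show r = 5 ∨ r = 6 by omega) with rfl | rfl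
        · norm_num at h7
        · norm_num at hr
    have hone : f j = 1 := by
      rw [← orderOf_eq_one_iff]
      by_contra hne
      obtain ⟨r, hr, hrd⟩ := Nat.exists_prime_and_dvd hne
      exact haut r hr (hM'1 r hr (hKc ▸ hrd.trans hd1)) (hrd.trans hd2)
    have hmem : j ∈ f.ker := hone
    rw [Subgroup.normalizerMonoidHom_ker] at hmem
    exact (Subgroup.mem_centralizer_iff.mp hmem x hx).symm
  -- hence `K` is normal
  set L : Subgroup G := K.map M.subtype with hL
  have hLc : Nat.card L = Nat.card M' := by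
    rw [hL, Subgroup.card_map_of_injective M.subtype_injective, hKc]
  have hchar : ∀ x ∈ M, x ^ Nat.card M' = 1 → x ∈ L := by
    intro x hx hxe
    obtain ⟨⟨n, k⟩, hnk⟩ := hK.surjective ⟨x, hx⟩
    have hnk' : ((n : M) : G) * ((k : M) : G) = x := congrArg Subtype.val hnk
    have hc : Commute ((n : M) : G) ((k : M) : G) := (hcentral _ k.2 _ n.2).symm
    have hk1 : ((k : M) : G) ^ Nat.card M' = 1 := by
      have := pow_card_eq_one' (x := (⟨k.1, k.2⟩ : K))
      rw [hKc] at this
      exact congrArg (fun z : K => ((z : M) : G)) this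
    rw [← hnk', hc.mul_pow, hk1, mul_one] at hxe
    have hn1 : ((n : M) : G) = 1 := by
      rw [← orderOf_eq_one_iff]
      have hdn : orderOf ((n : M) : G) ∣ Nat.card (N.subgroupOf M) := by
        rw [Subgroup.orderOf_coe, Subgroup.orderOf_coe]; exact orderOf_dvd_natCard n
      exact Nat.eq_one_of_dvd_coprimes (hidx ▸ hcop) hdn (orderOf_dvd_of_pow_eq_one hxe)
    exact ⟨k, k.2, by rw [← hnk', hn1, one_mul]; rfl⟩
  refine ⟨L, ⟨fun x hx g => hchar _ ?_ ?_⟩, fun r hr hd => hM'1 r hr (hLc ▸ hd), fun r hr hd => ?_⟩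
  · exact Subgroup.Normal.conj_mem inferInstance _ (Subgroup.map_subtype_le _ hx) g
  · rw [conj_pow, ← hLc, show x ^ Nat.card L = 1 from congrArg Subtype.val
      (pow_card_eq_one' (x := (⟨x, hx⟩ : L))), mul_one, mul_inv_cancel]
  · have hLi : L.index = Nat.card N * M'.index := by
      refine Nat.eq_of_mul_eq_mul_left (Nat.card_pos (α := L)) ?_
      rw [L.card_mul_index, ← N.card_mul_index, Subgroup.index_eq_card N, ← M'.card_mul_index, hLc]
      ring
    rw [hLi] at hd
    rcases hr.dvd_mul.mp hd with h | h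
    · rw [hsd r hr h]; exact not_le.mp hsp
    · exact hM'2 r hr h

/-- Two Hall numbers for the same primes agree. -/
theorem bigHall_unique {p a a' b b' : ℕ} (h : a * a' = b * b')
    (ha : ∀ r : ℕ, r.Prime → r ∣ a → p ≤ r) (ha' : ∀ r : ℕ, r.Prime → r ∣ a' → r < p)
    (hb : ∀ r : ℕ, r.Prime → r ∣ b → p ≤ r) (hb' : ∀ r : ℕ, r.Prime → r ∣ b' → r < p) : a = b := by
  have h1 : Nat.Coprime a b' := Nat.coprime_of_dvd fun r hr x y =>
    absurd (ha r hr x) (not_le.mpr (hb' r hr y))
  have h2 : Nat.Coprime b a' := Nat.coprime_of_dvd fun r hr x y =>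
    absurd (hb r hr x) (not_le.mpr (ha' r hr y))
  exact Nat.dvd_antisymm (h1.dvd_of_dvd_mul_right (h ▸ dvd_mul_right a a'))
    (h2.dvd_of_dvd_mul_right (h.symm ▸ dvd_mul_right b b'))

/-- A group with the element counts of a solvable group with small Sylows is solvable. -/
theorem isSolvable_of_counts {C : Type u} {H : Type*} [Group C] [Finite C] [Group H] [Finite H]
    (hC : Group.IsSolvable C) (hsm : SmallSylows C) (hcard : Nat.card C = Nat.card H)
    (hcount : ∀ a : ℕ, a ∣ Nat.card C →
      Nat.card {x : C // x ^ a = 1} = Nat.card {x : H // x ^ a = 1}) : Group.IsSolvable H := by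
  have hstep : ∀ (d p : ℕ), p + d = Nat.card H + 5 → 5 ≤ p →
      ∃ M : Subgroup H, IsBigHall p M ∧ Group.IsSolvable M := by
    intro d
    induction d with
    | zero =>
      intro p hp hp5
      refine ⟨⊥, ⟨inferInstance, fun r hr hd => ?_, fun r hr hd => ?_⟩, inferInstance⟩
      · rw [Subgroup.card_bot] at hd; exact absurd hd hr.not_dvd_one
      · rw [Subgroup.index_bot] at hd
        have := Nat.le_of_dvd Nat.card_pos hd
        omega
    | succ d ih =>
      intro p hp hp5
      obtain ⟨M, ⟨hMn, hM1, hM2⟩, hMs⟩ := ih (p + 1) (by omega) (by omega)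
      by_cases hpd : p.Prime ∧ p ∣ M.index
      swap
      · refine ⟨M, ⟨hMn, fun r hr hd => le_of_lt (hM1 r hr hd), fun r hr hd => ?_⟩, hMs⟩
        have := hM2 r hr hd
        rcases Nat.lt_or_ge r p with h | h
        · exact h
        · exact absurd ⟨(show r = p by omega) ▸ hr, (show r = p by omega) ▸ hd⟩ hpd
      obtain ⟨hpp, hpd⟩ := hpd
      haveI := Fact.mk hpp
      haveI := hMn
      obtain ⟨Q⟩ : Nonempty (Sylow p H) := inferInstance
      set L := M ⊔ (Q : Subgroup H) with hLdef
      have hQs : Group.IsSolvable (Q : Subgroup H) := by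
        haveI := Q.isPGroup'.isNilpotent
        infer_instance
      have hMd : ∀ r : ℕ, r.Prime → r ∣ Nat.card L → p ≤ r := by
        intro r hr hd
        have h1 : (M.subgroupOf L).index ∣ Nat.card (Q : Subgroup H) := by
          show M.relIndex L ∣ _
          rw [hLdef, sup_comm, Subgroup.relIndex_sup_right]
          exact Subgroup.index_dvd_card _
        rw [← (M.subgroupOf L).card_mul_index,
          Nat.card_congr (Subgroup.subgroupOfEquivOfLe (le_sup_left : M ≤ L)).toEquiv] at hd
        rcases hr.dvd_mul.mp hd with h | h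
        · exact le_of_lt (hM1 r hr h)
        · obtain ⟨k, hk⟩ := IsPGroup.iff_card.mp Q.isPGroup'
          exact ((Nat.prime_dvd_prime_iff_eq hr hpp).mp (hr.dvd_of_dvd_pow (hk ▸ h.trans h1))).ge
      have hLi : ∀ r : ℕ, r.Prime → r ∣ L.index → r < p := by
        intro r hr hd
        have h1 := hM2 r hr (hd.trans (Subgroup.index_dvd_of_le le_sup_left))
        rcases Nat.lt_or_ge r p with h | h
        · exact h
        · exfalso
          obtain rfl : r = p := by omega
          exact Q.not_dvd_index (hd.trans (Subgroup.index_dvd_of_le le_sup_right))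
      obtain ⟨MC, hMCn, hMC1, hMC2⟩ := exists_bigHall hp5 _ C rfl hC hsm
      have hLc : Nat.card L = Nat.card MC := bigHall_unique
        (by rw [L.card_mul_index, MC.card_mul_index, hcard]) hMd hLi hMC1 hMC2
      -- `L` consists of all solutions of `x ^ |L| = 1`
      have hcnt : Nat.card {x : C // x ^ Nat.card MC = 1} = Nat.card MC := by
        refine Nat.card_congr (Equiv.subtypeEquivRight fun x => ⟨fun hx => ?_, fun hx => ?_⟩)
        · by_contra hne
          have h1 : QuotientGroup.mk' MC x ≠ 1 := fun e => hne ((QuotientGroup.eq_one_iff x).mp e)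
          obtain ⟨r, hr, hrd⟩ := Nat.exists_prime_and_dvd (mt orderOf_eq_one_iff.mp h1)
          have h2 := hMC2 r hr (MC.index_eq_card ▸ hrd.trans (orderOf_dvd_natCard _))
          have h3 := hMC1 r hr (hrd.trans (((orderOf_map_dvd (QuotientGroup.mk' MC) x).trans
            (orderOf_dvd_of_pow_eq_one hx))))
          omega
        · exact congrArg Subtype.val (pow_card_eq_one' (x := (⟨x, hx⟩ : MC)))
      rw [hcount _ (Subgroup.card_subgroup_dvd_card MC), ← hLc] at hcnt
      have hset : {x : H | x ^ Nat.card L = 1} = (L : Set H) := by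
        symm
        refine Set.eq_of_subset_of_ncard_le (fun x hx => ?_) ?_ (Set.toFinite _)
        · exact congrArg Subtype.val (pow_card_eq_one' (x := (⟨x, hx⟩ : L)))
        · exact (le_of_eq hcnt : _)
      refine ⟨L, ⟨⟨fun x hx g => ?_⟩, hMd, hLi⟩,
        Components.isSolvable_sup (by rw [Subgroup.normalizer_eq_top_iff.mpr hMn]; exact le_top) hMs hQs⟩
      have hx' : x ∈ {x : H | x ^ Nat.card L = 1} := hset ▸ hx
      show g * x * g⁻¹ ∈ (L : Set H)
      rw [← hset]
      show (g * x * g⁻¹) ^ Nat.card L = 1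
      rw [conj_pow, show x ^ Nat.card L = 1 from hx', mul_one, mul_inv_cancel]
  obtain ⟨M, ⟨hMn, -, hM2⟩, hMs⟩ := hstep (Nat.card H) 5 (by omega) le_rfl
  have hsub : ∀ r ∈ (M.index).primeFactorsList, r = 2 ∨ r = 3 := fun r hr => by
    rw [Nat.mem_primeFactorsList Subgroup.index_ne_zero_of_finite] at hr
    have h1 := hM2 r hr.1 hr.2
    have h2 := hr.1.two_le
    interval_cases r
    · exact Or.inl rfl
    · exact Or.inr rfl
    · exact absurd hr.1 (by norm_num)
  have hq : Group.IsSolvable (H ⧸ M) := by
    refine Burnside.isSolvable_of_card_eq_prime_pow_mul (p := 2) (q := 3) Nat.prime_two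
      Nat.prime_three (a := M.index.factorization 2) (b := M.index.factorization 3) ?_
    rw [← Subgroup.index_eq_card]
    have h0 : M.index ≠ 0 := Subgroup.index_ne_zero_of_finite
    refine Nat.eq_of_factorization_eq h0 (by positivity) fun r => ?_
    rw [Nat.factorization_mul (by positivity) (by positivity), Finsupp.add_apply,
      Nat.Prime.factorization_pow Nat.prime_two, Nat.Prime.factorization_pow Nat.prime_three]
    by_cases hr : r = 2
    · subst hr; simp
    by_cases hr3 : r = 3
    · subst hr3; simp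
    rw [Finsupp.single_eq_of_ne hr, Finsupp.single_eq_of_ne hr3]
    refine Finsupp.notMem_support_iff.mp fun hmem => ?_
    rw [Nat.support_factorization, Nat.mem_primeFactors] at hmem
    rcases hsub r ((Nat.mem_primeFactorsList h0).mpr ⟨hmem.1, hmem.2.1⟩) with h | h
    exacts [hr h, hr3 h]
  exact (Group.isSolvable_iff_subgroup_quotient M).mpr ⟨hMs, hq⟩

end Cfsg.Agent.Lib.OrderTypeFrob
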